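import Mathlib.Algebra.Homology.ShortComplex.ExactFunctor
import Mathlib.Algebra.Homology.HomologicalComplexAbelian
import Mathlib.Algebra.Homology.CochainComplexOpposite

/-!
# Comparison maps into injective complexes, compatibly with left exact sequences
-/

set_option autoImplicit false
set_option linter.style.haveILetI false

universe u v

open CategoryTheory CategoryTheory.Limits

noncomputable section

namespace Groth.Agent.InjCompare

variable {V : Type u} [Category.{v} V] [Abelian V]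

/-- A map to an injective killing the kernel of `f` factors through `f`. -/
theorem exists_comp_eq {A B J : V} (hJ : Injective J) (f : A ⟶ B) (φ : A ⟶ J) (h : kernel.ι f ≫ φ = 0) :
    ∃ ψ : B ⟶ J, f ≫ ψ = φ := by
  haveI := hJ
  have hS : (ShortComplex.mk (kernel.ι f) f (kernel.condition f)).Exact :=
    ShortComplex.exact_of_f_is_kernel _ (kernelIsKernel f)
  exact ⟨hS.descToInjective φ h, hS.comp_descToInjective φ h⟩

section Seq

variable {A B : ℕ → V} (a : ∀ n, A n ⟶ A (n + 1)) (b : ∀ n, B n ⟶ B (n + 1))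
  (wa : ∀ n, a n ≫ a (n + 1) = 0) (wb : ∀ n, b n ≫ b (n + 1) = 0)
  (hex : ∀ n, (ShortComplex.mk (a n) (a (n + 1)) (wa n)).Exact) (hB : ∀ n, Injective (B n))

include hex hB in
/-- A map of sequences killing the kernel of the first differential is null-homotopic. -/
theorem exists_homotopy (wb : ∀ n, b n ≫ b (n + 1) = 0) (δ : ∀ n, A n ⟶ B n)
    (comm : ∀ n, a n ≫ δ (n + 1) = δ n ≫ b n) (h0 : kernel.ι (a 0) ≫ δ 0 = 0) :
    ∃ h : ∀ n, A (n + 1) ⟶ B n, a 0 ≫ h 0 = δ 0 ∧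
      ∀ n, a (n + 1) ≫ h (n + 1) + h n ≫ b n = δ (n + 1) := by
  classical
  obtain ⟨ψ₀, hψ₀⟩ := exists_comp_eq (hB 0) (a 0) (δ 0) h0
  have step : ∀ n (ψ : A (n + 1) ⟶ B n), a n ≫ (δ (n + 1) - ψ ≫ b n) = 0 →
      ∃ ψ' : A (n + 2) ⟶ B (n + 1), a (n + 1) ≫ ψ' + ψ ≫ b n = δ (n + 1) := fun n ψ hψ => by
    haveI := hB (n + 1)
    refine ⟨(hex n).descToInjective _ hψ, ?_⟩
    rw [(hex n).comp_descToInjective _ hψ, sub_add_cancel]
  have inv : ∀ n (ψ : A (n + 1) ⟶ B n) (ψ' : A (n + 2) ⟶ B (n + 1)),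
      a (n + 1) ≫ ψ' + ψ ≫ b n = δ (n + 1) → a (n + 1) ≫ (δ (n + 2) - ψ' ≫ b (n + 1)) = 0 :=
    fun n ψ ψ' h => by
      rw [Preadditive.comp_sub, comm (n + 1), ← h, Preadditive.add_comp, Category.assoc, Category.assoc, wb n,
        comp_zero, add_zero, sub_self]
  have base : a 0 ≫ (δ 1 - ψ₀ ≫ b 0) = 0 := by
    rw [Preadditive.comp_sub, comm 0, ← Category.assoc, hψ₀, sub_self]
  let P : ∀ n, {ψ : A (n + 1) ⟶ B n // a n ≫ (δ (n + 1) - ψ ≫ b n) = 0} := fun n =>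
    Nat.rec ⟨ψ₀, base⟩ (fun n p => ⟨(step n p.1 p.2).choose, inv n p.1 _ (step n p.1 p.2).choose_spec⟩) n
  exact ⟨fun n => (P n).1, hψ₀, fun n => (step n (P n).1 (P n).2).choose_spec⟩

include hex hB in
/-- A map on the kernels of the first differentials extends to a map of sequences. -/
theorem exists_map (wb : ∀ n, b n ≫ b (n + 1) = 0) (φ : kernel (a 0) ⟶ kernel (b 0)) :
    ∃ δ : ∀ n, A n ⟶ B n, (∀ n, a n ≫ δ (n + 1) = δ n ≫ b n) ∧ kernel.ι (a 0) ≫ δ 0 = φ ≫ kernel.ι (b 0) := by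
  classical
  haveI := hB 0
  let δ₀ : A 0 ⟶ B 0 := Injective.factorThru (φ ≫ kernel.ι (b 0)) (kernel.ι (a 0))
  have hδ₀ : kernel.ι (a 0) ≫ δ₀ = φ ≫ kernel.ι (b 0) := Injective.comp_factorThru _ _
  obtain ⟨δ₁, hδ₁⟩ := exists_comp_eq (hB 1) (a 0) (δ₀ ≫ b 0) (by
    rw [← Category.assoc, hδ₀, Category.assoc, kernel.condition, comp_zero])
  have step : ∀ n (p : A n ⟶ B n) (q : A (n + 1) ⟶ B (n + 1)), a n ≫ q = p ≫ b n →
      ∃ q' : A (n + 2) ⟶ B (n + 2), a (n + 1) ≫ q' = q ≫ b (n + 1) := fun n p q h => by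
    haveI := hB (n + 2)
    have hw : a n ≫ q ≫ b (n + 1) = 0 := by rw [← Category.assoc, h, Category.assoc, wb n, comp_zero]
    exact ⟨(hex n).descToInjective _ hw, (hex n).comp_descToInjective _ hw⟩
  let P : ∀ n, {pq : (A n ⟶ B n) × (A (n + 1) ⟶ B (n + 1)) // a n ≫ pq.2 = pq.1 ≫ b n} := fun n =>
    Nat.rec ⟨(δ₀, δ₁), hδ₁⟩
      (fun n p => ⟨(p.1.2, (step n p.1.1 p.1.2 p.2).choose), (step n p.1.1 p.1.2 p.2).choose_spec⟩) n
  exact ⟨fun n => (P n).1.1, fun n => (P n).2, hδ₀⟩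

end Seq

variable {C I : CochainComplex V ℕ}

theorem exact_dd (C : CochainComplex V ℕ) (hC : ∀ n, 0 < n → C.ExactAt n) (n : ℕ) :
    (ShortComplex.mk (C.d n (n + 1)) (C.d (n + 1) (n + 1 + 1)) (C.d_comp_d _ _ _)).Exact :=
  (C.exactAt_iff' n (n + 1) (n + 1 + 1) (CochainComplex.prev_nat_succ n) (CochainComplex.next _ _)).1
    (hC (n + 1) (Nat.succ_pos n))

/-- A chain map with the given components. -/
def ofSeq (δ : ∀ n, C.X n ⟶ I.X n) (comm : ∀ n, C.d n (n + 1) ≫ δ (n + 1) = δ n ≫ I.d n (n + 1)) : C ⟶ I where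
  f := δ
  comm' i j h := by
    obtain rfl : i + 1 = j := h
    exact (comm i).symm

/-- The inclusion of the cycles of degree zero, as the homology in degree zero. -/
def zeroIncl (C : CochainComplex V ℕ) : C.homology 0 ⟶ C.X 0 :=
  haveI := C.isIso_homologyπ 0 0 (by simp) (C.shape _ _ (by simp))
  inv (C.homologyπ 0) ≫ C.iCycles 0

instance mono_zeroIncl (C : CochainComplex V ℕ) : Mono (zeroIncl C) := by
  unfold zeroIncl
  infer_instance

theorem zeroIncl_naturality (f : C ⟶ I) : HomologicalComplex.homologyMap f 0 ≫ zeroIncl I = zeroIncl C ≫ f.f 0 := by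
  haveI := C.isIso_homologyπ 0 0 (by simp) (C.shape _ _ (by simp))
  haveI := I.isIso_homologyπ 0 0 (by simp) (I.shape _ _ (by simp))
  rw [← cancel_epi (C.homologyπ 0), HomologicalComplex.homologyπ_naturality_assoc]
  simp [zeroIncl]

theorem zeroIncl_d (C : CochainComplex V ℕ) : zeroIncl C ≫ C.d 0 1 = 0 := by
  simp [zeroIncl]

theorem exists_zeroIncl_lift {T : V} (x : T ⟶ C.X 0) (hx : x ≫ C.d 0 1 = 0) :
    ∃ y : T ⟶ C.homology 0, y ≫ zeroIncl C = x := by
  haveI := C.isIso_homologyπ 0 0 (by simp) (C.shape _ _ (by simp))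
  exact ⟨C.liftCycles x 1 (CochainComplex.next _ 0) hx ≫ C.homologyπ 0, by simp [zeroIncl]⟩

theorem kernel_comp_eq_zero {J : V} (φ : C.X 0 ⟶ J) (h : zeroIncl C ≫ φ = 0) : kernel.ι (C.d 0 (0 + 1)) ≫ φ = 0 := by
  obtain ⟨y, hy⟩ := exists_zeroIncl_lift (kernel.ι (C.d 0 1)) (kernel.condition _)
  rw [← hy, Category.assoc, h, comp_zero]

/-- A map on `H⁰` lifts to a chain map. -/
theorem exists_chainMap (hC : ∀ n, 0 < n → C.ExactAt n) (hI : ∀ n, Injective (I.X n))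
    (g : C.homology 0 ⟶ I.homology 0) : ∃ f : C ⟶ I, HomologicalComplex.homologyMap f 0 = g := by
  obtain ⟨y, hy⟩ := exists_zeroIncl_lift (kernel.ι (C.d 0 1)) (kernel.condition _)
  let φ : kernel (C.d 0 1) ⟶ kernel (I.d 0 1) :=
    kernel.lift _ (y ≫ g ≫ zeroIncl I) (by rw [Category.assoc, Category.assoc, zeroIncl_d, comp_zero, comp_zero])
  obtain ⟨δ, hc, h0⟩ := exists_map (A := C.X) (B := I.X) (fun n => C.d n (n + 1)) (fun n => I.d n (n + 1))
    (fun n => C.d_comp_d _ _ _) (exact_dd C hC) hI (fun n => I.d_comp_d _ _ _) φ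
  refine ⟨ofSeq δ hc, ?_⟩
  rw [← cancel_mono (zeroIncl I), zeroIncl_naturality]
  obtain ⟨z, hz⟩ : ∃ z, z ≫ kernel.ι (C.d 0 1) = zeroIncl C :=
    ⟨kernel.lift _ _ (zeroIncl_d C), kernel.lift_ι _ _ _⟩
  have hzy : z ≫ y = 𝟙 _ := by rw [← cancel_mono (zeroIncl C), Category.assoc, hy, hz, Category.id_comp]
  have h0' : kernel.ι (C.d 0 1) ≫ δ 0 = y ≫ g ≫ zeroIncl I := h0.trans (kernel.lift_ι _ _ _)
  show zeroIncl C ≫ δ 0 = g ≫ zeroIncl I
  rw [← hz, Category.assoc, h0', ← Category.assoc, hzy, Category.id_comp]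

/-- A chain map zero on `H⁰` is null-homotopic. -/
theorem exists_null (hC : ∀ n, 0 < n → C.ExactAt n) (hI : ∀ n, Injective (I.X n)) (f : C ⟶ I)
    (h0 : HomologicalComplex.homologyMap f 0 = 0) :
    ∃ h : ∀ n, C.X (n + 1) ⟶ I.X n, C.d 0 1 ≫ h 0 = f.f 0 ∧
      ∀ n, C.d (n + 1) (n + 2) ≫ h (n + 1) + h n ≫ I.d n (n + 1) = f.f (n + 1) :=
  exists_homotopy (A := C.X) (B := I.X) (fun n => C.d n (n + 1)) (fun n => I.d n (n + 1))
    (fun n => C.d_comp_d _ _ _) (exact_dd C hC) hI (fun n => I.d_comp_d _ _ _) f.f (fun n => (f.comm n (n + 1)).symm)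
    (kernel_comp_eq_zero _ (by rw [← zeroIncl_naturality, h0, zero_comp]))

/-- The null-homotopic chain map of a sequence of maps of degree `-1`. -/
def nullMap (C I : CochainComplex V ℕ) (h : ∀ n, C.X (n + 1) ⟶ I.X n) : C ⟶ I :=
  ofSeq (fun n => match n with
      | 0 => C.d 0 1 ≫ h 0
      | m + 1 => C.d (m + 1) (m + 2) ≫ h (m + 1) + h m ≫ I.d m (m + 1))
    (fun n => by cases n <;> simp)

@[simp] theorem nullMap_zero (h : ∀ n, C.X (n + 1) ⟶ I.X n) : (nullMap C I h).f 0 = C.d 0 1 ≫ h 0 := rfl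

@[simp] theorem nullMap_succ (h : ∀ n, C.X (n + 1) ⟶ I.X n) (n : ℕ) :
    (nullMap C I h).f (n + 1) = C.d (n + 1) (n + 2) ≫ h (n + 1) + h n ≫ I.d n (n + 1) := rfl

theorem homologyMap_nullMap (h : ∀ n, C.X (n + 1) ⟶ I.X n) :
    HomologicalComplex.homologyMap (nullMap C I h) 0 = 0 := by
  rw [← cancel_mono (zeroIncl I), zeroIncl_naturality, zero_comp, nullMap_zero, ← Category.assoc, zeroIncl_d, zero_comp]

theorem exists_null' (hC : ∀ n, 0 < n → C.ExactAt n) (hI : ∀ n, Injective (I.X n)) (f : C ⟶ I)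
    (h0 : HomologicalComplex.homologyMap f 0 = 0) : ∃ h : ∀ n, C.X (n + 1) ⟶ I.X n, nullMap C I h = f := by
  obtain ⟨h, h1, h2⟩ := exists_null hC hI f h0
  exact ⟨h, HomologicalComplex.hom_ext _ _ fun n => by cases n with | zero => exact h1 | succ n => exact h2 n⟩

theorem nullMap_comp {D : CochainComplex V ℕ} (j : D ⟶ C) (h : ∀ n, C.X (n + 1) ⟶ I.X n) :
    j ≫ nullMap C I h = nullMap D I (fun n => j.f (n + 1) ≫ h n) :=
  HomologicalComplex.hom_ext _ _ fun n => by cases n <;> simp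

theorem comp_nullMap {J : CochainComplex V ℕ} (q : I ⟶ J) (h : ∀ n, C.X (n + 1) ⟶ I.X n) :
    nullMap C I h ≫ q = nullMap C J (fun n => h n ≫ q.f n) :=
  HomologicalComplex.hom_ext _ _ fun n => by cases n <;> simp

theorem nullMap_sub (h h' : ∀ n, C.X (n + 1) ⟶ I.X n) :
    nullMap C I (fun n => h n - h' n) = nullMap C I h - nullMap C I h' :=
  HomologicalComplex.hom_ext _ _ fun n => by cases n <;> simp <;> abel

/-- A degree `-1` map whose null-homotopic map vanishes is a boundary. -/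
theorem exists_second (hC : ∀ n, 0 < n → C.ExactAt n) (hI : ∀ n, Injective (I.X n))
    (h : ∀ n, C.X (n + 1) ⟶ I.X n) (hh : nullMap C I h = 0) :
    ∃ L : ∀ n, C.X (n + 2) ⟶ I.X n, (-C.d 1 2) ≫ L 0 = h 0 ∧
      ∀ n, (-C.d (n + 2) (n + 3)) ≫ L (n + 1) + L n ≫ I.d n (n + 1) = h (n + 1) := by
  have e : ∀ n, C.d (n + 1) (n + 2) ≫ h (n + 1) + h n ≫ I.d n (n + 1) = 0 := fun n => by
    have := HomologicalComplex.congr_hom hh (n + 1)
    simpa using this
  have e0 : C.d 0 1 ≫ h 0 = 0 := by simpa using HomologicalComplex.congr_hom hh 0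
  refine exists_homotopy (A := fun n => C.X (n + 1)) (B := I.X) (fun n => -C.d (n + 1) (n + 2))
    (fun n => I.d n (n + 1)) (fun n => by simp) (fun n => ?_) hI (fun n => I.d_comp_d _ _ _) h (fun n => ?_) ?_
  · refine ShortComplex.exact_of_iso ?_ (exact_dd C hC (n + 1))
    exact ShortComplex.isoMk (Iso.refl _) (-(Iso.refl _)) (Iso.refl _) (by simp) (by simp)
  · rw [Preadditive.neg_comp, neg_eq_iff_add_eq_zero]
    exact e n
  · haveI := hI 0
    have hψ : C.d 1 2 ≫ (exact_dd C hC 0).descToInjective (h 0) e0 = h 0 := (exact_dd C hC 0).comp_descToInjective _ _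
    show kernel.ι (-C.d 1 2) ≫ h 0 = 0
    have hk : kernel.ι (-C.d 1 2) ≫ C.d 1 2 = 0 := by
      rw [← neg_eq_zero, ← Preadditive.comp_neg, kernel.condition]
    rw [← hψ]
    exact (Category.assoc _ _ _).symm.trans ((congrArg (· ≫ _) hk).trans zero_comp)

section Ladder

variable {C' C C'' I' I I'' : CochainComplex V ℕ} (jC : C' ⟶ C) (πC : C ⟶ C'') (jI : I' ⟶ I) (πI : I ⟶ I'')

/-- Compatible chain maps inducing a given ladder on `H⁰`. -/
theorem exists_ladder (mC : ∀ n, Mono (jC.f n)) (wC : ∀ n, jC.f n ≫ πC.f n = 0)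
    (exC : ∀ n, (ShortComplex.mk (jC.f n) (πC.f n) (wC n)).Exact)
    (wI : ∀ n, jI.f n ≫ πI.f n = 0)
    (hC' : ∀ n, 0 < n → C'.ExactAt n) (hC : ∀ n, 0 < n → C.ExactAt n) (hC'' : ∀ n, 0 < n → C''.ExactAt n)
    (injI' : ∀ n, Injective (I'.X n)) (injI : ∀ n, Injective (I.X n)) (injI'' : ∀ n, Injective (I''.X n))
    (g' : C'.homology 0 ⟶ I'.homology 0) (g : C.homology 0 ⟶ I.homology 0)
    (g'' : C''.homology 0 ⟶ I''.homology 0)
    (hg1 : HomologicalComplex.homologyMap jC 0 ≫ g = g' ≫ HomologicalComplex.homologyMap jI 0)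
    (hg2 : HomologicalComplex.homologyMap πC 0 ≫ g'' = g ≫ HomologicalComplex.homologyMap πI 0) :
    ∃ (f' : C' ⟶ I') (f : C ⟶ I) (f'' : C'' ⟶ I''),
      jC ≫ f = f' ≫ jI ∧ πC ≫ f'' = f ≫ πI ∧
      HomologicalComplex.homologyMap f' 0 = g' ∧ HomologicalComplex.homologyMap f 0 = g ∧
      HomologicalComplex.homologyMap f'' 0 = g'' := by
  obtain ⟨f', hf'⟩ := exists_chainMap hC' injI' g'
  obtain ⟨f₀, hf₀⟩ := exists_chainMap hC injI g
  obtain ⟨h, hh⟩ := exists_null' hC' injI (jC ≫ f₀ - f' ≫ jI) (by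
    rw [HomologicalComplex.homologyMap_sub, HomologicalComplex.homologyMap_comp,
      HomologicalComplex.homologyMap_comp, hf', hf₀, hg1, sub_self])
  have hext : ∃ H : ∀ n, C.X (n + 1) ⟶ I.X n, ∀ n, jC.f (n + 1) ≫ H n = h n :=
    ⟨fun n => haveI := injI n; haveI := mC (n + 1); Injective.factorThru (h n) (jC.f (n + 1)),
      fun n => haveI := injI n; haveI := mC (n + 1); Injective.comp_factorThru _ _⟩
  obtain ⟨H, hH⟩ := hext
  have hf₁ : jC ≫ (f₀ - nullMap C I H) = f' ≫ jI := by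
    rw [Preadditive.comp_sub, nullMap_comp]
    simp only [hH, hh, sub_sub_cancel]
  have hgf : HomologicalComplex.homologyMap (f₀ - nullMap C I H) 0 = g := by
    rw [HomologicalComplex.homologyMap_sub, homologyMap_nullMap, hf₀, sub_zero]
  generalize f₀ - nullMap C I H = f at hf₁ hgf
  obtain ⟨f₂, hf₂⟩ := exists_chainMap hC'' injI'' g''
  obtain ⟨K, hK⟩ := exists_null' hC injI'' (πC ≫ f₂ - f ≫ πI) (by
    rw [HomologicalComplex.homologyMap_sub, HomologicalComplex.homologyMap_comp,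
      HomologicalComplex.homologyMap_comp, hgf, hf₂, hg2, sub_self])
  have hz : nullMap C' I'' (fun n => jC.f (n + 1) ≫ K n) = 0 := by
    rw [← nullMap_comp, hK, Preadditive.comp_sub, ← Category.assoc jC f, hf₁]
    refine sub_eq_zero.2 (HomologicalComplex.hom_ext _ _ fun n => ?_)
    simp [reassoc_of% wC n, wI n]
  obtain ⟨L, hL0, hL⟩ := exists_second hC' injI'' _ hz
  have hext' : ∃ L' : ∀ n, C.X (n + 2) ⟶ I''.X n, ∀ n, jC.f (n + 2) ≫ L' n = L n :=
    ⟨fun n => haveI := injI'' n; haveI := mC (n + 2); Injective.factorThru (L n) (jC.f (n + 2)),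
      fun n => haveI := injI'' n; haveI := mC (n + 2); Injective.comp_factorThru _ _⟩
  obtain ⟨L', hL'⟩ := hext'
  let M : ∀ n, C.X (n + 1) ⟶ I''.X n := fun n => match n with
    | 0 => (-C.d 1 2) ≫ L' 0
    | m + 1 => (-C.d (m + 2) (m + 3)) ≫ L' (m + 1) + L' m ≫ I''.d m (m + 1)
  have hM : nullMap C I'' M = 0 := HomologicalComplex.hom_ext _ _ fun n => by
    rcases n with _ | _ | n <;> simp [M]
  have hjM : ∀ n, jC.f (n + 1) ≫ (K n - M n) = 0 := fun n => by
    rcases n with _ | n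
    · rw [Preadditive.comp_sub, ← hL0]
      simp [M, hL']
    · rw [Preadditive.comp_sub, ← hL n]
      simp [M, reassoc_of% hL', hL']
  have hK' : nullMap C I'' (fun n => K n - M n) = πC ≫ f₂ - f ≫ πI := by rw [nullMap_sub, hM, sub_zero, hK]
  have hfac : ∀ n, ∃ P : C''.X (n + 1) ⟶ I''.X n, πC.f (n + 1) ≫ P = K n - M n := fun n =>
    haveI := injI'' n
    ⟨(exC (n + 1)).descToInjective _ (hjM n), (exC (n + 1)).comp_descToInjective _ (hjM n)⟩
  choose P hP using hfac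
  refine ⟨f', f, f₂ - nullMap C'' I'' P, hf₁, ?_, hf', hgf, ?_⟩
  · rw [Preadditive.comp_sub, nullMap_comp]
    simp only [hP, hK', sub_sub_cancel]
  · rw [HomologicalComplex.homologyMap_sub, homologyMap_nullMap, hf₂, sub_zero]

end Ladder

end Groth.Agent.InjCompare
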